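import Cfsg.Agent.M24.TwistCard
import Cfsg.Agent.M24.BlockData
import Mathlib.Data.Fin.VecNotation

/-!
Certified counts of twisted commutation in M24 and M22, by kernel computation.
-/

set_option autoImplicit false

namespace Cfsg.Agent.M24.BlockData

theorem elem5m22 : elemCheck [[23], [0]] g5m22 5 = true := by decide +kernel

theorem tw5m22_1 : twCheck [[23], [0]] g5m22 1 5 rel5m22_1 = true := by decide +kernel

theorem tw5m22_2 : twCheck [[23], [0]] g5m22 2 5 rel5m22_2 = true := by decide +kernel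

theorem tw5m22_3 : twCheck [[23], [0]] g5m22 3 5 rel5m22_3 = true := by decide +kernel

theorem tw5m22_4 : twCheck [[23], [0]] g5m22 4 5 rel5m22_4 = true := by decide +kernel

theorem tw5m22 : ∀ t : Fin 4, twCheck [[23], [0]] g5m22 (t + 1)
    ((![5, 5, 5, 5] : Fin 4 → ℕ) t) (![rel5m22_1, rel5m22_2, rel5m22_3, rel5m22_4] t) = true
  | ⟨0, _⟩ => tw5m22_1
  | ⟨1, _⟩ => tw5m22_2
  | ⟨2, _⟩ => tw5m22_3
  | ⟨3, _⟩ => tw5m22_4

theorem elem7m22 : elemCheck [[23], [0]] g7m22 7 = true := by decide +kernel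

theorem tw7m22_1 : twCheck [[23], [0]] g7m22 1 7 rel7m22_1 = true := by decide +kernel

theorem tw7m22_2 : twCheck [[23], [0]] g7m22 2 7 rel7m22_2 = true := by decide +kernel

theorem tw7m22_3 : twCheck [[23], [0]] g7m22 3 0 rel7m22_3 = true := by decide +kernel

theorem tw7m22_4 : twCheck [[23], [0]] g7m22 4 7 rel7m22_4 = true := by decide +kernel

theorem tw7m22_5 : twCheck [[23], [0]] g7m22 5 0 rel7m22_5 = true := by decide +kernel

theorem tw7m22_6 : twCheck [[23], [0]] g7m22 6 0 rel7m22_6 = true := by decide +kernel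

theorem tw7m22 : ∀ t : Fin 6, twCheck [[23], [0]] g7m22 (t + 1)
    ((![7, 7, 0, 7, 0, 0] : Fin 6 → ℕ) t) (![rel7m22_1, rel7m22_2, rel7m22_3, rel7m22_4, rel7m22_5, rel7m22_6] t) = true
  | ⟨0, _⟩ => tw7m22_1
  | ⟨1, _⟩ => tw7m22_2
  | ⟨2, _⟩ => tw7m22_3
  | ⟨3, _⟩ => tw7m22_4
  | ⟨4, _⟩ => tw7m22_5
  | ⟨5, _⟩ => tw7m22_6

theorem elem11m22 : elemCheck [[23], [0]] g11m22 11 = true := by decide +kernel

theorem tw11m22_1 : twCheck [[23], [0]] g11m22 1 11 rel11m22_1 = true := by decide +kernel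

theorem tw11m22_2 : twCheck [[23], [0]] g11m22 2 0 rel11m22_2 = true := by decide +kernel

theorem tw11m22_3 : twCheck [[23], [0]] g11m22 3 11 rel11m22_3 = true := by decide +kernel

theorem tw11m22_4 : twCheck [[23], [0]] g11m22 4 11 rel11m22_4 = true := by decide +kernel

theorem tw11m22_5 : twCheck [[23], [0]] g11m22 5 11 rel11m22_5 = true := by decide +kernel

theorem tw11m22_6 : twCheck [[23], [0]] g11m22 6 0 rel11m22_6 = true := by decide +kernel

theorem tw11m22_7 : twCheck [[23], [0]] g11m22 7 0 rel11m22_7 = true := by decide +kernel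

theorem tw11m22_8 : twCheck [[23], [0]] g11m22 8 0 rel11m22_8 = true := by decide +kernel

theorem tw11m22_9 : twCheck [[23], [0]] g11m22 9 11 rel11m22_9 = true := by decide +kernel

theorem tw11m22_10 : twCheck [[23], [0]] g11m22 10 0 rel11m22_10 = true := by decide +kernel

theorem tw11m22 : ∀ t : Fin 10, twCheck [[23], [0]] g11m22 (t + 1)
    ((![11, 0, 11, 11, 11, 0, 0, 0, 11, 0] : Fin 10 → ℕ) t) (![rel11m22_1, rel11m22_2, rel11m22_3, rel11m22_4, rel11m22_5, rel11m22_6, rel11m22_7, rel11m22_8, rel11m22_9, rel11m22_10] t) = true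
  | ⟨0, _⟩ => tw11m22_1
  | ⟨1, _⟩ => tw11m22_2
  | ⟨2, _⟩ => tw11m22_3
  | ⟨3, _⟩ => tw11m22_4
  | ⟨4, _⟩ => tw11m22_5
  | ⟨5, _⟩ => tw11m22_6
  | ⟨6, _⟩ => tw11m22_7
  | ⟨7, _⟩ => tw11m22_8
  | ⟨8, _⟩ => tw11m22_9
  | ⟨9, _⟩ => tw11m22_10

end Cfsg.Agent.M24.BlockData
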